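import Mathlib.Algebra.Central.Defs
import Mathlib.FieldTheory.Galois.Basic
import Mathlib.FieldTheory.PurelyInseparable.Basic
import Mathlib.LinearAlgebra.Dimension.DivisionRing
import Mathlib.RingTheory.LittleWedderburn
import Mathlib.LinearAlgebra.FiniteDimensional.Basic

universe u v w

open Polynomial

namespace Groth.Agent.DivAlgP

variable {K : Type u} [Field K] {A : Type v} [DivisionRing A] [Algebra K A]

theorem comm_range (a : A) (h : a ∈ (algebraMap K A).range) (b : A) : a * b = b * a := by
  obtain ⟨k, rfl⟩ := h; exact Algebra.commutes k b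

theorem center_eq_bot [Algebra.IsCentral K A] : Subalgebra.center K A = ⊥ :=
  le_antisymm Algebra.IsCentral.out bot_le

theorem not_sep_of_pow_mem (p : ℕ) [Fact p.Prime] [CharP K p] {x : A} (hx : x ∉ (algebraMap K A).range)
    (hp : x ^ p ∈ (algebraMap K A).range) : ¬ IsSeparable K x := by
  intro hs
  obtain ⟨a, ha⟩ := hp
  have hint : IsIntegral K x := IsSeparable.isIntegral hs
  have hdvd : minpoly K x ∣ X ^ p - C a := minpoly.dvd K x (by simp [ha])
  let E := AlgebraicClosure K
  haveI : CharP E p := charP_of_injective_algebraMap (algebraMap K E).injective p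
  obtain ⟨α, hα⟩ := IsAlgClosed.exists_pow_nat_eq (algebraMap K E a) (Fact.out : p.Prime).pos
  have h1 : (X ^ p - C a : K[X]).map (algebraMap K E) = (X - C α) ^ p := by
    rw [sub_pow_char, ← C_pow, hα]; simp
  have hd : (minpoly K x).map (algebraMap K E) ∣ (X - C α) ^ p := h1 ▸ Polynomial.map_dvd _ hdvd
  obtain ⟨i, hi, hassoc⟩ := (dvd_prime_pow (prime_X_sub_C α) _).1 hd
  have hsep : ((minpoly K x).map (algebraMap K E)).Separable := Polynomial.Separable.map hs
  have hsq := hsep.squarefree
  have hmon := (minpoly.monic hint).map (algebraMap K E)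
  have heq : (minpoly K x).map (algebraMap K E) = (X - C α) ^ i := eq_of_monic_of_associated hmon ((monic_X_sub_C α).pow i) hassoc
  have hdeg : (minpoly K x).natDegree = i := by
    rw [← Polynomial.natDegree_map (algebraMap K E), heq, natDegree_pow, natDegree_X_sub_C, mul_one]
  have hi1 : i ≤ 1 := by
    by_contra hc
    rw [heq] at hsq
    exact not_isUnit_X_sub_C α (hsq _ (dvd_trans (by rw [← pow_two]) (pow_dvd_pow _ (show 2 ≤ i by omega))))
  refine hx ?_
  apply minpoly.mem_range_of_degree_eq_one
  rw [Polynomial.degree_eq_natDegree (minpoly.monic hint).ne_zero, hdeg]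
  have := minpoly.natDegree_pos hint
  norm_cast; omega

/-- centralizer of a maximal subfield in a division algebra of dimension `p^2` -/
theorem mem_range_of_commute {p : ℕ} [hp : Fact p.Prime] [Algebra.IsCentral K A] [FiniteDimensional K A]
    (hA : Module.finrank K A = p ^ 2) {L : Type w} [Field L] [Algebra K L]
    (hL : Module.finrank K L = p) (ι : L →ₐ[K] A) {c : A} (hc : ∀ l, c * ι l = ι l * c) : c ∈ ι.range := by
  let C : Subalgebra K A := Subalgebra.centralizer K (ι.range : Set A)
  have hle : ι.range ≤ C := by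
    rintro _ ⟨l, rfl⟩ _ ⟨l', rfl⟩
    show ι l' * ι l = ι l * ι l'
    rw [← map_mul, ← map_mul, mul_comm]
  haveI : IsDomain C := inferInstance
  haveI : FiniteDimensional K C := inferInstance
  letI : DivisionRing C := divisionRingOfFiniteDimensional K C
  have hdvd : Module.finrank K C ∣ Module.finrank K A := ⟨Module.finrank C A, (Module.finrank_mul_finrank K C A).symm⟩
  have hp_le : p ≤ Module.finrank K C := by
    calc p = Module.finrank K L := hL.symm
      _ = Module.finrank K ι.range := (AlgEquiv.ofInjectiveField ι).toLinearEquiv.finrank_eq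
      _ ≤ _ := Submodule.finrank_mono (s := Subalgebra.toSubmodule ι.range) (t := Subalgebra.toSubmodule C) hle
  rw [hA, Nat.dvd_prime_pow hp.out] at hdvd
  obtain ⟨i, hi, hCi⟩ := hdvd
  have hcC : c ∈ C := by rintro _ ⟨l, rfl⟩; exact (hc l).symm
  rcases lt_or_ge i 2 with h | h
  · have hCp : Module.finrank K C = p := by
      rcases i with _ | i
      · rw [hCi, pow_zero] at hp_le; exact absurd hp_le (not_le.2 hp.out.one_lt)
      · rw [hCi, show i = 0 by omega, zero_add, pow_one]
    have : Subalgebra.toSubmodule ι.range = Subalgebra.toSubmodule C := Submodule.eq_of_le_of_finrank_eq hle (by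
      show Module.finrank K ι.range = Module.finrank K C
      rw [hCp, ← hL]; exact (AlgEquiv.ofInjectiveField ι).toLinearEquiv.finrank_eq.symm)
    exact (SetLike.ext_iff.1 this c).2 hcC
  · have hCtop : C = ⊤ := Subalgebra.eq_of_le_of_finrank_eq le_top (by
      rw [hCi, show i = 2 by omega, ← hA]; exact (Subalgebra.topEquiv (R := K) (A := A)).toLinearEquiv.finrank_eq.symm)
    exfalso
    have hcen : ∀ l, ι l ∈ Subalgebra.center K A := fun l => Subalgebra.mem_center_iff.2 fun b => by
      have : b ∈ C := hCtop ▸ Algebra.mem_top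
      exact (this (ι l) ⟨l, rfl⟩).symm
    have hr : ι.range ≤ (⊥ : Subalgebra K A) := by
      rintro _ ⟨l, rfl⟩
      have := hcen l
      rwa [center_eq_bot (K := K) (A := A)] at this
    have := Submodule.finrank_mono (s := Subalgebra.toSubmodule ι.range) (t := Subalgebra.toSubmodule (⊥ : Subalgebra K A)) hr
    change Module.finrank K ι.range ≤ Module.finrank K (⊥ : Subalgebra K A) at this
    rw [Subalgebra.finrank_bot, ← (AlgEquiv.ofInjectiveField ι).toLinearEquiv.finrank_eq, hL] at this
    exact absurd this (not_le.2 hp.out.one_lt)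

/-- in a cyclic maximal subfield situation there is an element inducing a non-trivial automorphism -/
theorem exists_conj {p : ℕ} [hp : Fact p.Prime] [Algebra.IsCentral K A] [FiniteDimensional K A]
    (hA : Module.finrank K A = p ^ 2) {L : Type w} [Field L] [Algebra K L] [IsGalois K L]
    (hL : Module.finrank K L = p) (ι : L →ₐ[K] A) :
    ∃ (x : A) (σ : L ≃ₐ[K] L), x ≠ 0 ∧ σ ≠ 1 ∧ ∀ l, x * ι l = ι (σ l) * x := by
  classical
  haveI : FiniteDimensional K L := Module.finite_of_finrank_pos (hL ▸ hp.out.pos)
  obtain ⟨θ, hθ⟩ := Field.exists_primitive_element K L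
  have hgen : Algebra.adjoin K {θ} = ⊤ := by
    rw [← IntermediateField.adjoin_simple_toSubalgebra_of_isAlgebraic (Algebra.IsAlgebraic.isAlgebraic θ), hθ, IntermediateField.top_toSubalgebra]
  letI : Module L A := Module.compHom A ι.toRingHom
  have hsmul : ∀ (l : L) (a : A), l • a = ι l * a := fun l a => rfl
  let Rθ : Module.End L A :=
    { toFun := fun a => a * ι θ
      map_add' := fun a b => add_mul a b _
      map_smul' := fun l a => by simp only [RingHom.id_apply, hsmul, mul_assoc] }
  have hev : ∀ (f : K[X]) (a : A), (aeval Rθ (f.map (algebraMap K L))) a = a * ι (aeval θ f) := by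
    intro f
    induction f using Polynomial.induction_on' with
    | add f g hf hg => intro a; simp [map_add, hf, hg, mul_add]
    | monomial n k =>
      intro a
      have hpow : ∀ m : ℕ, (Rθ ^ m) a = a * ι (θ ^ m) := fun m => by
        induction m with
        | zero => simp
        | succ m ih =>
          rw [pow_succ', Module.End.mul_apply, ih]
          show a * ι (θ ^ m) * ι θ = _
          rw [pow_succ, map_mul, mul_assoc]
      rw [Polynomial.map_monomial, aeval_monomial, aeval_monomial, Module.End.mul_apply, hpow, Module.algebraMap_end_apply,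
        hsmul, AlgHom.commutes, map_mul, AlgHom.commutes, ← mul_assoc, Algebra.commutes, mul_assoc]
  set f := minpoly K θ with hf
  have hsplit : (f.map (algebraMap K L)).Splits := Normal.splits inferInstance θ
  have hz : aeval Rθ (f.map (algebraMap K L)) = 0 := LinearMap.ext fun a => by simp [hev, hf]
  rw [Polynomial.Splits.eq_prod_roots_of_monic hsplit ((minpoly.monic (IsIntegral.of_finite K θ)).map _)] at hz
  by_contra hcon
  push Not at hcon
  have hzero : ∀ r ∈ (f.map (algebraMap K L)).roots, r ≠ θ → ∀ a, (aeval Rθ (X - C r)) a = 0 → a = 0 := by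
    intro r hr hrne a ha
    by_contra hane
    have hroot : aeval r f = 0 := by
      have := (mem_roots'.1 hr).2
      rwa [IsRoot.def, eval_map, ← aeval_def] at this
    let pb := (IntermediateField.adjoin.powerBasis (IsIntegral.of_finite K θ)).map ((IntermediateField.equivOfEq hθ).trans IntermediateField.topEquiv)
    have hgen' : pb.gen = θ := rfl
    let g : L →ₐ[K] L := pb.lift r (by rw [hgen']; exact hroot)
    have hg : g θ = r := by rw [← hgen']; exact pb.lift_gen _ _
    let σ : L ≃ₐ[K] L := AlgEquiv.ofBijective g g.bijective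
    have hax : ∀ l, a * ι l = ι (σ l) * a := by
      intro l
      have hl : l ∈ Algebra.adjoin K {θ} := hgen ▸ Algebra.mem_top
      induction hl using Algebra.adjoin_induction with
      | mem y hy =>
        rw [Set.mem_singleton_iff.1 hy]
        show a * ι θ = ι (g θ) * a
        rw [hg]
        simpa [hsmul, Rθ, sub_eq_zero] using ha
      | algebraMap k => rw [AlgEquiv.commutes, AlgHom.commutes, Algebra.commutes]
      | add y z _ _ hy hz => rw [map_add ι y z, mul_add, hy, hz, map_add σ, map_add ι, add_mul]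
      | mul y z _ _ hy hz => rw [map_mul ι y z, ← mul_assoc, hy, mul_assoc, hz, ← mul_assoc, ← map_mul, ← map_mul σ]
    have hσ1 : σ ≠ 1 := fun h => hrne (by rw [← hg]; exact AlgEquiv.congr_fun h θ)
    obtain ⟨l, hl⟩ := hcon a σ hane hσ1
    exact hl (hax l)
  -- every vector is an eigenvector for θ
  have key : ∀ (s : Multiset L), s ≤ (f.map (algebraMap K L)).roots → ∀ a, (aeval Rθ (s.map fun r => X - C r).prod) a = 0 → a * ι θ = ι θ * a := by
    intro s
    induction s using Multiset.induction with
    | empty => intro _ a ha; simp at ha; simp [ha]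
    | cons r s ih =>
      intro hs a ha
      have hs' : s ≤ (f.map (algebraMap K L)).roots := (Multiset.le_cons_self s r).trans hs
      rw [Multiset.map_cons, Multiset.prod_cons, map_mul, Module.End.mul_apply] at ha
      by_cases hr : r = θ
      · subst hr
        have hnot : r ∉ s := by
          have hnd : (r ::ₘ s).Nodup := Multiset.nodup_of_le hs
            (Polynomial.nodup_roots (Polynomial.Separable.map (Algebra.IsSeparable.isSeparable K r)))
          exact (Multiset.nodup_cons.1 hnd).1
        have hcomm : ∀ (q : L[X]), (aeval Rθ (X - C r)) ((aeval Rθ q) a) = (aeval Rθ q) ((aeval Rθ (X - C r)) a) := fun q => by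
          rw [← Module.End.mul_apply, ← map_mul, mul_comm, map_mul, Module.End.mul_apply]
        rw [hcomm] at ha
        have hzero' : ∀ t : Multiset L, t ≤ s → ∀ b, (aeval Rθ (t.map fun q => X - C q).prod) b = 0 → b = 0 := by
          intro t
          induction t using Multiset.induction with
          | empty => intro _ b hb; simpa using hb
          | cons q t iht =>
            intro ht b hb
            rw [Multiset.map_cons, Multiset.prod_cons, map_mul, Module.End.mul_apply] at hb
            have hq : q ∈ s := Multiset.mem_of_le ht (Multiset.mem_cons_self q t)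
            exact iht ((Multiset.le_cons_self t q).trans ht) b
              (hzero q (Multiset.mem_of_le hs' hq) (fun e => hnot (e ▸ hq)) _ hb)
        have := hzero' s le_rfl _ ha
        simpa [hsmul, Rθ, sub_eq_zero] using this
      · exact ih hs' a (hzero r (Multiset.mem_of_le hs (Multiset.mem_cons_self r s)) hr _ ha)
  have hcen : ι θ ∈ Subalgebra.center K A := Subalgebra.mem_center_iff.2 fun a => key _ le_rfl a (by rw [hz]; rfl)
  rw [center_eq_bot (K := K) (A := A), Algebra.mem_bot] at hcen
  obtain ⟨k, hk⟩ := hcen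
  have : θ = algebraMap K L k := ι.toRingHom.injective (by simp [hk])
  have hbot : Algebra.adjoin K {θ} ≤ ⊥ := Algebra.adjoin_le (Set.singleton_subset_iff.2 ⟨k, this.symm⟩)
  rw [hgen, top_le_iff] at hbot
  have h1 := Subalgebra.bot_eq_top_iff_finrank_eq_one.1 hbot
  rw [hL] at h1
  exact hp.out.one_lt.ne' h1

theorem exists_not_sep_of_galois {p : ℕ} [hp : Fact p.Prime] [CharP K p] [Algebra.IsCentral K A] [FiniteDimensional K A]
    (hA : Module.finrank K A = p ^ 2) {L : Type w} [Field L] [Algebra K L] [IsGalois K L]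
    (hL : Module.finrank K L = p) (ι : L →ₐ[K] A) : ∃ v : A, ¬ IsSeparable K v := by
  haveI : FiniteDimensional K L := Module.finite_of_finrank_pos (hL ▸ hp.out.pos)
  obtain ⟨x, σ, hx, hσ, hxl⟩ := exists_conj hA hL ι
  have hpow : ∀ (n : ℕ) l, x ^ n * ι l = ι ((σ ^ n) l) * x ^ n := fun n => by
    induction n with
    | zero => simp
    | succ n ih => intro l; rw [pow_succ', mul_assoc, ih, ← mul_assoc, hxl, mul_assoc, pow_succ' σ, AlgEquiv.mul_apply]
  have hcard : Nat.card (L ≃ₐ[K] L) = p := (IsGalois.card_aut_eq_finrank K L).trans hL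
  have hσp : σ ^ p = 1 := by rw [← hcard]; exact pow_card_eq_one'
  obtain ⟨l, hl⟩ := mem_range_of_commute hA hL ι (c := x ^ p) (fun l => by rw [hpow, hσp]; rfl)
  have hfix : σ l = l := by
    apply ι.toRingHom.injective
    show ι (σ l) = ι l
    have h1 := hxl l
    rw [show ι l = x ^ p from hl, ← pow_succ', pow_succ] at h1
    rw [show ι l = x ^ p from hl]
    exact (mul_right_cancel₀ hx h1).symm
  have hgen : Subgroup.zpowers σ = ⊤ := zpowers_eq_top_of_prime_card hcard hσ
  have hmem : l ∈ (⊥ : IntermediateField K L) := (IsGalois.mem_bot_iff_fixed l).2 fun g => by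
    have hst : Subgroup.zpowers σ ≤ MulAction.stabilizer (L ≃ₐ[K] L) l := Subgroup.zpowers_le.2 hfix
    exact hst (hgen ▸ Subgroup.mem_top g)
  obtain ⟨k, rfl⟩ := IntermediateField.mem_bot.1 hmem
  refine ⟨x, not_sep_of_pow_mem p ?_ ⟨k, by rw [← hl]; exact (ι.commutes k).symm⟩⟩
  intro hxK
  refine hσ (AlgEquiv.ext fun l => ι.toRingHom.injective ?_)
  show ι (σ l) = ι l
  have := hxl l
  rw [comm_range x hxK] at this
  exact (mul_right_cancel₀ hx this).symm

/-- Wedderburn's identity -/
theorem wedderburn_shift {v1 v2 : A} (s b c : K)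
    (E : v2 * v2 + v1 * v2 - s • v2 + v1 * v1 - s • v1 + b • (1 : A) = 0)
    (h1 : v1 ^ 3 - s • v1 ^ 2 + b • v1 - c • (1 : A) = 0)
    (h2 : v2 ^ 3 - s • v2 ^ 2 + b • v2 - c • (1 : A) = 0) :
    (v1 * v2 - v2 * v1) * v1 = v2 * (v1 * v2 - v2 * v1) := by
  have e1 : (v2 * v2 + v1 * v2 - s • v2 + v1 * v1 - s • v1 + b • (1 : A)) * v1 = 0 := by rw [E, zero_mul]
  have e2 : v2 * (v2 * v2 + v1 * v2 - s • v2 + v1 * v1 - s • v1 + b • (1 : A)) = 0 := by rw [E, mul_zero]
  simp only [mul_add, add_mul, mul_sub, sub_mul, smul_mul_assoc, mul_smul_comm, one_mul, mul_one, pow_succ, pow_zero, ← mul_assoc] at e1 e2 h1 h2 ⊢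
  rw [← sub_eq_zero]
  linear_combination (norm := module) e1 - e2 - h1 + h2

theorem exists_not_sep_three [CharP K 3] [Algebra.IsCentral K A] [FiniteDimensional K A]
    (hA : Module.finrank K A = 3 ^ 2) : ∃ v : A, ¬ IsSeparable K v := by
  classical
  haveI : Fact (Nat.Prime 3) := ⟨Nat.prime_three⟩
  by_contra hcon
  push Not at hcon
  haveI : Infinite K := by
    by_contra hfin
    rw [not_infinite_iff_finite] at hfin
    haveI : Finite A := Module.finite_of_finite K
    letI : Field A := littleWedderburn A
    have h1 : (⊤ : Subalgebra K A) ≤ Subalgebra.center K A := fun a _ => Subalgebra.mem_center_iff.2 fun b => mul_comm b a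
    rw [center_eq_bot (K := K) (A := A), top_le_iff] at h1
    have := Subalgebra.bot_eq_top_iff_finrank_eq_one.1 h1
    omega
  obtain ⟨v, hv⟩ : ∃ v : A, v ∉ (algebraMap K A).range := by
    by_contra h; push Not at h
    have h1 : (⊤ : Subalgebra K A) ≤ ⊥ := fun a _ => Algebra.mem_bot.2 (h a)
    have := Subalgebra.bot_eq_top_iff_finrank_eq_one.1 (le_antisymm bot_le h1)
    omega
  have hint : IsIntegral K v := IsIntegral.of_finite K v
  set f := minpoly K v with hf
  haveI : Fact (Irreducible f) := ⟨minpoly.irreducible hint⟩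
  let L := AdjoinRoot f
  let ι : L →ₐ[K] A := Ideal.Quotient.liftₐ (Ideal.span {f}) (aeval v) (fun q hq => by
    obtain ⟨r, rfl⟩ := Ideal.mem_span_singleton.1 hq
    rw [map_mul, hf, minpoly.aeval, zero_mul])
  have hιv : ι (AdjoinRoot.root f) = v := aeval_X v
  haveI : FiniteDimensional K L := (AdjoinRoot.powerBasis (minpoly.ne_zero hint)).finite
  have hdL : Module.finrank K L = f.natDegree := (AdjoinRoot.powerBasis (minpoly.ne_zero hint)).finrank
  have hdeg : f.natDegree = 3 := by
    letI : Module L A := Module.compHom A ι.toRingHom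
    haveI : IsScalarTower K L A := ⟨fun k l a => by
      show ι (k • l) * a = k • (ι l * a); rw [map_smul, smul_mul_assoc]⟩
    have h := Module.finrank_mul_finrank K L A
    rw [hA, hdL] at h
    obtain ⟨i, hi, hi'⟩ := (Nat.dvd_prime_pow Nat.prime_three).1 (Dvd.intro _ h)
    rcases i with _ | _ | i
    · exact absurd (minpoly.mem_range_of_degree_eq_one K v (by rw [Polynomial.degree_eq_natDegree (minpoly.ne_zero hint), hi']; rfl)) hv
    · exact hi'
    · exfalso
      have hb : f.natDegree = 9 := by rw [hi', show i = 0 by omega]; norm_num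
      rw [hb] at hdL
      have hsurj : ι.toLinearMap.range = ⊤ := Submodule.eq_top_of_finrank_eq (by
        rw [LinearMap.finrank_range_of_inj ι.toRingHom.injective, hdL, hA]; norm_num)
      refine hv ?_
      have h1 : v ∈ Subalgebra.center K A := Subalgebra.mem_center_iff.2 fun a => by
        obtain ⟨l, rfl⟩ := LinearMap.range_eq_top.1 hsurj a
        show ι l * v = v * ι l
        rw [← hιv, ← map_mul, ← map_mul, mul_comm]
      rwa [center_eq_bot (K := K) (A := A), Algebra.mem_bot] at h1
  rw [hdeg] at hdL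
  have hroot : aeval (AdjoinRoot.root f) f = 0 := (AdjoinRoot.aeval_eq f).trans AdjoinRoot.mk_self
  have hL : ∀ r : L, aeval r f = 0 → r = AdjoinRoot.root f := by
    intro r hr
    by_contra hne
    have hsepf : f.Separable := hcon v
    have hs : (f.map (algebraMap K L)).Splits := by
      set F := f.map (algebraMap K L)
      have h0 : F ≠ 0 := (Polynomial.map_ne_zero_iff (algebraMap K L).injective).2 (minpoly.ne_zero hint)
      have m1 : AdjoinRoot.root f ∈ F.roots := mem_roots'.2 ⟨h0, by rw [IsRoot.def, eval_map, ← aeval_def, hroot]⟩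
      have m2 : r ∈ F.roots := mem_roots'.2 ⟨h0, by rw [IsRoot.def, eval_map, ← aeval_def]; exact hr⟩
      have hd1 : (X - C (AdjoinRoot.root f)) * (X - C r) ∣ F := by
        refine (isCoprime_X_sub_C_of_isUnit_sub (sub_ne_zero.2 (Ne.symm hne)).isUnit).mul_dvd ?_ ?_
        · exact dvd_iff_isRoot.2 (mem_roots'.1 m1).2
        · exact dvd_iff_isRoot.2 (mem_roots'.1 m2).2
      obtain ⟨q, hq⟩ := hd1
      rw [hq]
      refine Splits.mul ((Splits.X_sub_C _).mul (Splits.X_sub_C _)) (Splits.of_natDegree_le_one ?_)
      have hq0 : q ≠ 0 := fun h => h0 (by rw [hq, h, mul_zero])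
      have := congrArg natDegree hq
      rw [Polynomial.natDegree_map, hdeg, natDegree_mul (mul_ne_zero (X_sub_C_ne_zero _) (X_sub_C_ne_zero _)) hq0,
        natDegree_mul (X_sub_C_ne_zero _) (X_sub_C_ne_zero _)] at this
      simp at this; omega
    haveI : Polynomial.IsSplittingField K L f := ⟨hs, by
      rw [eq_top_iff, ← AdjoinRoot.adjoinRoot_eq_top (f := f)]
      refine Algebra.adjoin_mono (Set.singleton_subset_iff.2 ?_)
      rw [mem_rootSet]; exact ⟨minpoly.ne_zero hint, hroot⟩⟩
    haveI : IsGalois K L := IsGalois.of_separable_splitting_field (p := f) hsepf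
    obtain ⟨w, hw⟩ := exists_not_sep_of_galois (p := 3) hA hdL ι
    exact hw (hcon w)
  obtain ⟨y, hy⟩ : ∃ y : A, y * v ≠ v * y := by
    by_contra h; push Not at h
    have h1 : v ∈ Subalgebra.center K A := Subalgebra.mem_center_iff.2 h
    rw [center_eq_bot (K := K) (A := A), Algebra.mem_bot] at h1
    exact hv h1
  set cs : K := - f.coeff 2 with hcs
  set cb : K := f.coeff 1 with hcb
  set cc : K := - f.coeff 0 with hcc
  have hfv : ∀ a : A, aeval a f = a ^ 3 - cs • a ^ 2 + cb • a - cc • (1 : A) := by
    intro a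
    rw [aeval_eq_sum_range, hdeg, Finset.sum_range_succ, Finset.sum_range_succ, Finset.sum_range_succ, Finset.sum_range_one]
    have : f.coeff 3 = 1 := by rw [← hdeg]; exact minpoly.monic hint
    simp [this, hcs, hcb, hcc]; abel
  -- a conjugate of v not commuting with v
  obtain ⟨w, hw0, hwv⟩ : ∃ w : A, w ≠ 0 ∧ w * v * w⁻¹ ≠ v := by
    refine ⟨y, fun h => hy (by simp [h]), fun h => hy ?_⟩
    rwa [mul_inv_eq_iff_eq_mul₀ (fun h' => hy (by simp [h']))] at h
  have h1 : aeval v f = 0 := minpoly.aeval K v
  have hconjroot : ∀ (a u : A), u ≠ 0 → aeval a f = 0 → aeval (u * a * u⁻¹) f = 0 := by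
    intro a u hu ha
    rw [hfv] at ha ⊢
    have e : ∀ n : ℕ, (u * a * u⁻¹) ^ n = u * a ^ n * u⁻¹ := fun n => by
      induction n with
      | zero => simp [hu]
      | succ n ih => rw [pow_succ, ih, pow_succ]; simp [mul_assoc, hu]
    have : u * (a ^ 3 - cs • a ^ 2 + cb • a - cc • (1 : A)) * u⁻¹ = 0 := by rw [ha]; simp
    rw [e, e]
    simp only [mul_add, mul_sub, add_mul, sub_mul, mul_smul_comm, smul_mul_assoc, mul_one, mul_inv_cancel₀ hu] at this
    exact this
  set u := w * v * w⁻¹
  have hu : aeval u f = 0 := hconjroot v w hw0 h1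
  have hd : u - v ≠ 0 := sub_ne_zero.2 hwv
  set v2 := (u - v) * u * (u - v)⁻¹ with hv2
  have h2 : aeval v2 f = 0 := hconjroot u _ hd hu
  rw [hfv] at h1 h2 hu
  have E : v2 * v2 + v * v2 - cs • v2 + v * v - cs • v + cb • (1 : A) = 0 := by
    apply mul_right_cancel₀ hd
    have e : v2 * (u - v) = (u - v) * u := by rw [hv2, mul_assoc, inv_mul_cancel₀ hd, mul_one]
    rw [zero_mul]
    simp only [add_mul, sub_mul, smul_mul_assoc, one_mul]
    rw [mul_assoc v2 v2, e, ← mul_assoc v2, e, mul_assoc v v2, e]
    simp only [mul_add, add_mul, mul_sub, sub_mul, smul_mul_assoc, mul_smul_comm, ← mul_assoc, pow_succ, pow_zero, one_mul, smul_sub] at h1 hu ⊢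
    linear_combination (norm := module) hu - h1
  have hz : v * v2 - v2 * v ≠ 0 := by
    intro hz
    obtain ⟨r, hr⟩ := mem_range_of_commute (p := 3) hA hdL ι (c := v2) (fun l => by
      have hl : l ∈ Algebra.adjoin K {AdjoinRoot.root f} := by rw [AdjoinRoot.adjoinRoot_eq_top]; trivial
      induction hl using Algebra.adjoin_induction with
      | mem t ht => rw [Set.mem_singleton_iff] at ht; subst ht; rw [hιv]; exact (sub_eq_zero.1 hz).symm
      | algebraMap k => rw [AlgHom.commutes]; exact (Algebra.commutes k v2).symm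
      | add a b _ _ ha hb => rw [map_add, mul_add, ha, hb, add_mul]
      | mul a b _ _ ha hb => rw [map_mul, ← mul_assoc, ha, mul_assoc, hb, mul_assoc])
    have hr0 : aeval r f = 0 := ι.toRingHom.injective (by
      show ι (aeval r f) = ι 0
      rw [← aeval_algHom_apply, map_zero, show ι r = v2 from hr, hfv, h2])
    have hvv : v2 = v := by rw [← hr, hL r hr0]; exact hιv
    rw [hvv] at E
    have hder : aeval v (derivative f) = 0 := by
      have hc : (3 : A) = 0 := by
        rw [← map_ofNat (algebraMap K A) 3]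
        have : (3 : K) = 0 := by exact_mod_cast CharP.cast_eq_zero K 3
        rw [this, map_zero]
      have hexp : f = X ^ 3 - C cs * X ^ 2 + C cb * X - C cc := by
        conv_lhs => rw [f.as_sum_range, hdeg, Finset.sum_range_succ, Finset.sum_range_succ, Finset.sum_range_succ, Finset.sum_range_one]
        have : f.coeff 3 = 1 := by rw [← hdeg]; exact minpoly.monic hint
        simp [this, hcs, hcb, hcc, ← C_mul_X_pow_eq_monomial]; ring
      rw [hexp, ← E]
      simp [Algebra.smul_def, map_ofNat, pow_two]
      noncomm_ring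
    have hsep : f.Separable := hcon v
    obtain ⟨a, b, hab⟩ := hsep
    have := congrArg (aeval v) hab
    simp [hder, show aeval v f = 0 from minpoly.aeval K v] at this
  set z := v * v2 - v2 * v with hzdef
  set v3 := cs • (1 : A) - v - v2 with hv3
  have s1 : z * v = v2 * z := wedderburn_shift cs cb cc E h1 h2
  have E2 : v3 * v3 + v2 * v3 - cs • v3 + v2 * v2 - cs • v2 + cb • (1 : A) = 0 := by
    rw [← E, hv3]
    simp only [mul_add, add_mul, mul_sub, sub_mul, smul_mul_assoc, mul_smul_comm, one_mul, mul_one, smul_sub]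
    module
  have E3 : v * v + v3 * v - cs • v + v3 * v3 - cs • v3 + cb • (1 : A) = 0 := by
    rw [← E, hv3]
    simp only [mul_add, add_mul, mul_sub, sub_mul, smul_mul_assoc, mul_smul_comm, one_mul, mul_one, smul_sub]
    module
  have z2 : v2 * v3 - v3 * v2 = z := by
    rw [hzdef, hv3]
    simp only [mul_sub, sub_mul, smul_mul_assoc, mul_smul_comm, one_mul, mul_one]
    abel
  have z3 : v3 * v - v * v3 = z := by
    rw [hzdef, hv3]
    simp only [mul_sub, sub_mul, smul_mul_assoc, mul_smul_comm, one_mul, mul_one]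
    abel
  -- v3 is a root
  have h3 : v3 ^ 3 - cs • v3 ^ 2 + cb • v3 - cc • (1 : A) = 0 := by
    have e1 : (v3 * v3 + v2 * v3 - cs • v3 + v2 * v2 - cs • v2 + cb • (1 : A)) * v3 = 0 := by rw [E2, zero_mul]
    have e2 : v2 * (v * v + v3 * v - cs • v + v3 * v3 - cs • v3 + cb • (1 : A)) = 0 := by rw [E3, mul_zero]
    have e3 : v2 * (v2 * v2 + v * v2 - cs • v2 + v * v - cs • v + cb • (1 : A)) = 0 := by rw [E, mul_zero]
    rw [← h2, hv3]
    simp only [hv3, mul_add, add_mul, mul_sub, sub_mul, smul_mul_assoc, mul_smul_comm, one_mul, mul_one, smul_sub, pow_succ, pow_zero, ← mul_assoc, smul_add, smul_smul] at e1 e2 e3 ⊢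
    linear_combination (norm := module) e1 - e3
  have s2 : z * v2 = v3 * z := by rw [← z2]; exact wedderburn_shift cs cb cc E2 h2 h3
  have s3 : z * v3 = v * z := by rw [← z3]; exact wedderburn_shift cs cb cc E3 h3 h1
  have hz3 : z ^ 3 * v = v * z ^ 3 := by
    simp only [pow_succ, pow_zero, one_mul]
    rw [mul_assoc (z * z) z v, s1, ← mul_assoc, mul_assoc z z v2, s2, ← mul_assoc, s3]
    simp [mul_assoc]
  obtain ⟨l, hl⟩ := mem_range_of_commute (p := 3) hA hdL ι (c := z ^ 3) (fun l => by
      have hl : l ∈ Algebra.adjoin K {AdjoinRoot.root f} := by rw [AdjoinRoot.adjoinRoot_eq_top]; trivial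
      induction hl using Algebra.adjoin_induction with
      | mem t ht => rw [Set.mem_singleton_iff] at ht; subst ht; rw [hιv]; exact hz3
      | algebraMap k => rw [AlgHom.commutes]; exact (Algebra.commutes k (z ^ 3)).symm
      | add a b _ _ ha hb => rw [map_add, mul_add, ha, hb, add_mul]
      | mul a b _ _ ha hb => rw [map_mul, ← mul_assoc, ha, mul_assoc, hb, mul_assoc])
  refine not_sep_of_pow_mem 3 (x := z) ?_ ?_ (hcon z)
  · intro hzK
    refine hz ?_
    rw [comm_range z hzK v] at s1
    show v * v2 - v2 * v = 0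
    rw [mul_right_cancel₀ hz s1, sub_self]
  · by_contra hlK
    have hbot : l ∉ (⊥ : IntermediateField K L) := fun h => by
      obtain ⟨k, rfl⟩ := IntermediateField.mem_bot.1 h
      exact hlK ⟨k, by rw [← hl]; exact (ι.commutes k).symm⟩
    have hsimple : Algebra.adjoin K {l} = ⊤ := by
      let F := IntermediateField.adjoin K {l}
      have hF : F = ⊤ := by
        have h := Module.finrank_mul_finrank K F L
        rw [hdL] at h
        rcases (Nat.prime_three.eq_one_or_self_of_dvd _ (Dvd.intro _ h)) with h1 | h1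
        · exact absurd (IntermediateField.finrank_eq_one_iff.1 h1 ▸ IntermediateField.mem_adjoin_simple_self K l) hbot
        · exact IntermediateField.eq_of_le_of_finrank_eq le_top (by rw [h1, IntermediateField.finrank_top', hdL])
      rw [← IntermediateField.adjoin_simple_toSubalgebra_of_isAlgebraic (Algebra.IsAlgebraic.isAlgebraic l)]
      show F.toSubalgebra = ⊤
      rw [hF, IntermediateField.top_toSubalgebra]
    have hcomm : ∀ t : L, z * ι t = ι t * z := by
      intro t
      have ht : t ∈ Algebra.adjoin K {l} := hsimple ▸ Algebra.mem_top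
      induction ht using Algebra.adjoin_induction with
      | mem t' ht' => rw [Set.mem_singleton_iff] at ht'; subst ht'; rw [show ι t' = z ^ 3 from hl, ← pow_succ', ← pow_succ]
      | algebraMap k => rw [AlgHom.commutes]; exact (Algebra.commutes k z).symm
      | add a b _ _ ha hb => rw [map_add, mul_add, ha, hb, add_mul]
      | mul a b _ _ ha hb => rw [map_mul, ← mul_assoc, ha, mul_assoc, hb, mul_assoc]
    have := hcomm (AdjoinRoot.root f)
    rw [hιv, s1] at this
    refine hz ?_
    show v * v2 - v2 * v = 0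
    rw [mul_right_cancel₀ hz this, sub_self]

noncomputable def ιAdj (v : A) : AdjoinRoot (minpoly K v) →ₐ[K] A :=
  Ideal.Quotient.liftₐ (Ideal.span {minpoly K v}) (aeval v) (fun q hq => by
    obtain ⟨r, rfl⟩ := Ideal.mem_span_singleton.1 hq
    rw [map_mul, minpoly.aeval, zero_mul])

theorem ιAdj_root (v : A) : ιAdj (K := K) v (AdjoinRoot.root (minpoly K v)) = v := aeval_X v

theorem natDegree_eq {p : ℕ} [hp : Fact p.Prime] [Algebra.IsCentral K A] [FiniteDimensional K A]
    (hA : Module.finrank K A = p ^ 2) {v : A} (hv : v ∉ (algebraMap K A).range) :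
    (minpoly K v).natDegree = p := by
  have hint : IsIntegral K v := IsIntegral.of_finite K v
  haveI : Fact (Irreducible (minpoly K v)) := ⟨minpoly.irreducible hint⟩
  haveI : FiniteDimensional K (AdjoinRoot (minpoly K v)) := (AdjoinRoot.powerBasis (minpoly.ne_zero hint)).finite
  have hdL : Module.finrank K (AdjoinRoot (minpoly K v)) = (minpoly K v).natDegree := (AdjoinRoot.powerBasis (minpoly.ne_zero hint)).finrank
  letI : Module (AdjoinRoot (minpoly K v)) A := Module.compHom A (ιAdj (K := K) v).toRingHom
  haveI : IsScalarTower K (AdjoinRoot (minpoly K v)) A := ⟨fun k l a => by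
    show ιAdj v (k • l) * a = k • (ιAdj v l * a); rw [map_smul, smul_mul_assoc]⟩
  have h := Module.finrank_mul_finrank K (AdjoinRoot (minpoly K v)) A
  rw [hA, hdL] at h
  obtain ⟨i, hi, hi'⟩ := (Nat.dvd_prime_pow hp.out).1 (Dvd.intro _ h)
  rcases i with _ | _ | i
  · exact absurd (minpoly.mem_range_of_degree_eq_one K v (by rw [Polynomial.degree_eq_natDegree (minpoly.ne_zero hint), hi', pow_zero]; rfl)) hv
  · rw [hi', zero_add, pow_one]
  · exfalso
    rw [hi', show i + 1 + 1 = 2 by omega] at hdL
    have hsurj : (ιAdj (K := K) v).toLinearMap.range = ⊤ := Submodule.eq_top_of_finrank_eq (by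
      rw [LinearMap.finrank_range_of_inj (ιAdj (K := K) v).toRingHom.injective, hdL, hA])
    refine hv ?_
    have h1 : v ∈ Subalgebra.center K A := Subalgebra.mem_center_iff.2 fun a => by
      obtain ⟨l, rfl⟩ := LinearMap.range_eq_top.1 hsurj a
      show ιAdj v l * v = v * ιAdj v l
      have := congrArg (ιAdj (K := K) v) (mul_comm l (AdjoinRoot.root (minpoly K v)))
      rwa [map_mul, map_mul, ιAdj_root] at this
    rwa [center_eq_bot, Algebra.mem_bot] at h1

theorem mem_adjoin_of_commute {p : ℕ} [hp : Fact p.Prime] [Algebra.IsCentral K A] [FiniteDimensional K A]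
    (hA : Module.finrank K A = p ^ 2) {v : A} (hv : v ∉ (algebraMap K A).range) {c : A} (hc : c * v = v * c) :
    c ∈ Algebra.adjoin K {v} := by
  have hint : IsIntegral K v := IsIntegral.of_finite K v
  haveI : Fact (Irreducible (minpoly K v)) := ⟨minpoly.irreducible hint⟩
  obtain ⟨l, hl⟩ := mem_range_of_commute hA ((AdjoinRoot.powerBasis (minpoly.ne_zero hint)).finrank.trans (natDegree_eq hA hv))
    (ιAdj (K := K) v) (c := c) (fun l => by
      obtain ⟨q, rfl⟩ := AdjoinRoot.mk_surjective l
      have h3 : Algebra.adjoin K {v} ≤ Subalgebra.centralizer K {c} := Algebra.adjoin_le (Set.singleton_subset_iff.2 (by rintro _ rfl; exact hc))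
      exact h3 (aeval_mem_adjoin_singleton K v) c rfl)
  obtain ⟨q, rfl⟩ := AdjoinRoot.mk_surjective l
  rw [← hl]
  exact aeval_mem_adjoin_singleton K v

theorem exists_weyl_pair {p : ℕ} [hp : Fact p.Prime] [CharP K p] [Algebra.IsCentral K A] [FiniteDimensional K A]
    (hA : Module.finrank K A = p ^ 2) {v₀ : A} (hv₀ : ¬ IsSeparable K v₀) :
    ∃ v u : A, v ^ p ∈ (algebraMap K A).range ∧ u ^ p ∈ (algebraMap K A).range ∧ v * u - u * v = 1 ∧
      Algebra.adjoin K {v, u} = ⊤ := by
  have hv : v₀ ∉ (algebraMap K A).range := by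
    rintro ⟨k, rfl⟩; exact hv₀ (isSeparable_algebraMap k)
  have hint : IsIntegral K v₀ := IsIntegral.of_finite K v₀
  have hd := natDegree_eq hA hv
  have hvp : v₀ ^ p ∈ (algebraMap K A).range := by
    obtain ⟨g, hgsep, m, hm⟩ := Irreducible.hasSeparableContraction p (minpoly.irreducible hint)
    have hdeg := congrArg natDegree hm
    rw [natDegree_expand, hd] at hdeg
    rcases m with _ | m
    · rw [pow_zero, expand_one] at hm; subst hm; exact absurd hgsep hv₀
    have hg1 : g.natDegree = 1 ∧ m = 0 := by
      have hpp : g.natDegree * p ^ m = 1 := by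
        rw [pow_succ, ← mul_assoc] at hdeg
        exact Nat.eq_of_mul_eq_mul_right hp.out.pos (hdeg.trans (one_mul p).symm)
      obtain ⟨h1, h2⟩ := mul_eq_one.1 hpp
      refine ⟨h1, ?_⟩
      by_contra hm0
      exact absurd h2 (Nat.one_lt_pow hm0 hp.out.one_lt).ne'
    have hlc : g.coeff 1 ≠ 0 := by
      rw [← hg1.1]; exact leadingCoeff_ne_zero.2 (fun h => minpoly.ne_zero hint (by rw [← hm, h, map_zero]))
    have h0 : aeval v₀ (expand K (p ^ (m + 1)) g) = 0 := by rw [hm]; exact minpoly.aeval K v₀
    rw [expand_aeval, hg1.2, zero_add, pow_one, eq_X_add_C_of_natDegree_le_one hg1.1.le] at h0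
    simp only [map_add, map_mul, aeval_C, aeval_X] at h0
    refine ⟨-(g.coeff 0) / g.coeff 1, ?_⟩
    apply mul_left_cancel₀ (show algebraMap K A (g.coeff 1) ≠ 0 by simpa using hlc)
    rw [← map_mul, mul_div_cancel₀ _ hlc, map_neg]
    exact (eq_neg_of_add_eq_zero_left h0).symm
  let D : A → A := fun a => v₀ * a - a * v₀
  have hDp : ∀ a, (D^[p]) a = 0 := by
    intro a
    have key : ∀ n, (D^[n]) a = ((LinearMap.mulLeft K v₀ - LinearMap.mulRight K v₀) ^ n) a := fun n => by
      induction n with
      | zero => simp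
      | succ n ih => rw [Function.iterate_succ_apply', ih, pow_succ', Module.End.mul_apply]; rfl
    haveI : CharP (Module.End K A) p := charP_of_injective_algebraMap (algebraMap K (Module.End K A)).injective p
    rw [key, sub_pow_char_of_commute (p := p) (LinearMap.commute_mulLeft_right v₀ v₀), LinearMap.sub_apply, LinearMap.pow_mulLeft, LinearMap.pow_mulRight]
    simp [comm_range _ hvp a]
  obtain ⟨y, hy⟩ : ∃ y, D y ≠ 0 := by
    by_contra h; push Not at h
    have h1 : v₀ ∈ Subalgebra.center K A := Subalgebra.mem_center_iff.2 fun a => (sub_eq_zero.1 (h a)).symm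
    rw [center_eq_bot, Algebra.mem_bot] at h1
    exact hv h1
  obtain ⟨y', hy1, hy2⟩ : ∃ y', D y' ≠ 0 ∧ D (D y') = 0 := by
    classical
    have hex : ∃ n, (D^[n + 1]) y = 0 := ⟨p - 1, by rw [show p - 1 + 1 = p by have := hp.out.pos; omega]; exact hDp y⟩
    have hn := Nat.find_spec hex
    rcases hfind : Nat.find hex with _ | k
    · rw [hfind] at hn; exact absurd hn hy
    · rw [hfind, Function.iterate_succ_apply', Function.iterate_succ_apply'] at hn
      refine ⟨(D^[k]) y, ?_, hn⟩
      intro h
      exact Nat.find_min hex (m := k) (by omega) (by rw [Function.iterate_succ_apply']; exact h)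
  set c := D y' with hc
  have hvc : v₀ * c = c * v₀ := sub_eq_zero.1 hy2
  have hvci : v₀ * c⁻¹ = c⁻¹ * v₀ := (show Commute v₀ c from hvc).inv_right₀.eq
  set u := c⁻¹ * y' with hu
  have hvu : v₀ * u - u * v₀ = 1 := by
    rw [hu, ← mul_assoc, hvci, mul_assoc, mul_assoc, ← mul_sub]
    exact inv_mul_cancel₀ hy1
  have hpu : ∀ n : ℕ, v₀ * u ^ (n + 1) - u ^ (n + 1) * v₀ = ((n + 1 : ℕ) : A) * u ^ n := fun n => by
    induction n with
    | zero => simp [hvu]
    | succ n ih =>
      have e : v₀ * u ^ (n + 1 + 1) - u ^ (n + 1 + 1) * v₀ = (v₀ * u ^ (n + 1) - u ^ (n + 1) * v₀) * u + u ^ (n + 1) * (v₀ * u - u * v₀) := by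
        rw [pow_succ u (n + 1)]; noncomm_ring
      rw [e, ih, hvu, mul_one, mul_assoc, ← pow_succ]
      push_cast
      simp [add_mul]
  have hucomm : u ^ p * v₀ = v₀ * u ^ p := by
    have := hpu (p - 1)
    rw [show p - 1 + 1 = p by have := hp.out.pos; omega, show ((p : ℕ) : A) = 0 by rw [← map_natCast (algebraMap K A), CharP.cast_eq_zero, map_zero], zero_mul] at this
    exact (sub_eq_zero.1 this).symm
  have hupow : u ^ p ∈ (algebraMap K A).range := by
    by_contra hw
    have h1 := mem_adjoin_of_commute hA hv hucomm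
    -- `u^p` generates the same subfield
    have h2 : v₀ ∈ Algebra.adjoin K {u ^ p} := mem_adjoin_of_commute hA hw hucomm.symm
    have h3 : Algebra.adjoin K {u ^ p} ≤ Subalgebra.centralizer K {u} := Algebra.adjoin_le (Set.singleton_subset_iff.2 (by
      rintro _ rfl; exact ((Commute.refl u).pow_right p).eq))
    have h4 := h3 h2 u rfl
    rw [h4, sub_self] at hvu
    exact zero_ne_one hvu
  refine ⟨v₀, u, hvp, hupow, hvu, ?_⟩
  set S := Algebra.adjoin K ({v₀, u} : Set A) with hS
  haveI : FiniteDimensional K S := inferInstance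
  letI : DivisionRing S := divisionRingOfFiniteDimensional K S
  have hdvd : Module.finrank K S ∣ Module.finrank K A := ⟨Module.finrank S A, (Module.finrank_mul_finrank K S A).symm⟩
  rw [hA, Nat.dvd_prime_pow hp.out] at hdvd
  obtain ⟨i, hi, hSi⟩ := hdvd
  rcases lt_or_ge i 2 with h | h
  · exfalso
    have hle : Algebra.adjoin K {v₀} ≤ S := Algebra.adjoin_mono (by simp)
    have hrk : Module.finrank K (Algebra.adjoin K {v₀}) = p := by
      haveI : Fact (Irreducible (minpoly K v₀)) := ⟨minpoly.irreducible hint⟩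
      have : (ιAdj (K := K) v₀).range = Algebra.adjoin K {v₀} := by
        rw [Algebra.adjoin_singleton_eq_range_aeval]
        ext x; constructor
        · rintro ⟨l, rfl⟩; obtain ⟨q, rfl⟩ := AdjoinRoot.mk_surjective l; exact ⟨q, rfl⟩
        · rintro ⟨q, rfl⟩; exact ⟨AdjoinRoot.mk _ q, rfl⟩
      rw [← this, ← (AlgEquiv.ofInjectiveField (ιAdj (K := K) v₀)).toLinearEquiv.finrank_eq,
        (AdjoinRoot.powerBasis (minpoly.ne_zero hint)).finrank]
      exact hd
    have hSp : Module.finrank K S ≤ p := hSi ▸ (Nat.pow_le_pow_right hp.out.pos (show i ≤ 1 by omega)).trans (pow_one p).le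
    have heq := Subalgebra.eq_of_le_of_finrank_le hle (hrk.symm ▸ hSp)
    have hu' : u ∈ Algebra.adjoin K {v₀} := heq ▸ Algebra.subset_adjoin (by simp)
    have h3 : Algebra.adjoin K {v₀} ≤ Subalgebra.centralizer K {v₀} := Algebra.adjoin_le (Set.singleton_subset_iff.2 (by rintro _ rfl; rfl))
    rw [h3 hu' v₀ rfl, sub_self] at hvu
    exact zero_ne_one hvu
  · exact Subalgebra.eq_of_le_of_finrank_eq le_top (by
      rw [hSi, show i = 2 by omega, ← hA]; exact (Subalgebra.topEquiv (R := K) (A := A)).toLinearEquiv.finrank_eq.symm)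

theorem exists_galois_of_pair {p : ℕ} [hp : Fact p.Prime] [CharP K p] [Algebra.IsCentral K A] [FiniteDimensional K A]
    (hA : Module.finrank K A = p ^ 2) {v u : A} (hvu : v * u - u * v = 1) :
    ∃ (L : Type v) (_ : Field L) (_ : Algebra K L), IsGalois K L ∧ Module.finrank K L = p ∧ Nonempty (L →ₐ[K] A) := by
  classical
  set θ := u * v with hθ
  have hu0 : u ≠ 0 := fun h => by rw [hθ, h, mul_zero, zero_mul, sub_zero] at hvu; exact zero_ne_one hvu
  have hshift : θ * u = u * (θ + 1) := by rw [hθ, ← hvu]; noncomm_ring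
  have hθK : θ ∉ (algebraMap K A).range := fun h => by
    rw [comm_range θ h u, mul_add, mul_one, left_eq_add] at hshift
    exact hu0 hshift
  have hint : IsIntegral K θ := IsIntegral.of_finite K θ
  set f := minpoly K θ with hf
  haveI : Fact (Irreducible f) := ⟨minpoly.irreducible hint⟩
  haveI : FiniteDimensional K (AdjoinRoot f) := (AdjoinRoot.powerBasis (minpoly.ne_zero hint)).finite
  have hd : f.natDegree = p := natDegree_eq hA hθK
  set ι := ιAdj (K := K) θ
  have hroot : ∀ n : ℕ, aeval (AdjoinRoot.root f + (n : AdjoinRoot f)) f = 0 := by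
    intro n
    apply ι.toRingHom.injective
    show ι _ = ι 0
    rw [← aeval_algHom_apply, map_zero, map_add, map_natCast, ιAdj_root]
    induction n with
    | zero => rw [Nat.cast_zero, add_zero]; exact minpoly.aeval K θ
    | succ n ih =>
      have e : ∀ q : K[X], aeval (θ + n) q * u = u * aeval (θ + (n + 1 : ℕ)) q := fun q => by
        induction q using Polynomial.induction_on' with
        | add q r hq hr => rw [map_add, map_add, add_mul, mul_add, hq, hr]
        | monomial m k =>
          have hm : (θ + n) ^ m * u = u * (θ + (n + 1 : ℕ)) ^ m := by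
            induction m with
            | zero => simp
            | succ m ihm =>
              rw [pow_succ, mul_assoc, add_mul, hshift, (Nat.cast_commute n u).eq, ← mul_add, ← mul_assoc, ihm, pow_succ, ← mul_assoc]
              congr 1; push_cast; abel
          rw [aeval_monomial, aeval_monomial, mul_assoc, hm, ← mul_assoc, Algebra.commutes, mul_assoc]
      have := e f
      rw [ih, zero_mul] at this
      exact (mul_eq_zero.1 this.symm).resolve_left hu0
  haveI : CharP (AdjoinRoot f) p := charP_of_injective_algebraMap (algebraMap K _).injective p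
  have hinj : Function.Injective (fun i : Fin p => AdjoinRoot.root f + ((i : ℕ) : AdjoinRoot f)) := fun i j h => by
    have := (CharP.natCast_eq_natCast (AdjoinRoot f) p).1 (add_left_cancel h)
    rw [Nat.ModEq, Nat.mod_eq_of_lt i.2, Nat.mod_eq_of_lt j.2] at this
    exact Fin.ext this
  set F := f.map (algebraMap K (AdjoinRoot f))
  have hF0 : F ≠ 0 := (Polynomial.map_ne_zero_iff (algebraMap K (AdjoinRoot f)).injective).2 (minpoly.ne_zero hint)
  have hsub : Finset.univ.map ⟨_, hinj⟩ ⊆ F.roots.toFinset := by
    intro r hr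
    obtain ⟨i, -, rfl⟩ := Finset.mem_map.1 hr
    rw [Multiset.mem_toFinset, mem_roots']
    exact ⟨hF0, by rw [IsRoot.def, eval_map, ← aeval_def]; exact hroot _⟩
  have hcard : p ≤ F.roots.toFinset.card := by simpa using Finset.card_le_card hsub
  have hFd : F.natDegree = p := by rw [Polynomial.natDegree_map, hd]
  have hsplit : F.Splits := by
    rw [splits_iff_card_roots]
    exact le_antisymm (card_roots' _) (by rw [hFd]; exact hcard.trans (Multiset.toFinset_card_le _))
  have hsep : f.Separable := by
    rw [← Polynomial.separable_map (algebraMap K (AdjoinRoot f)), ← Polynomial.nodup_roots_iff_of_splits hF0 hsplit]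
    exact Multiset.dedup_eq_self.1 (Multiset.eq_of_le_of_card_le (Multiset.dedup_le _) ((card_roots' _).trans (hFd.le.trans hcard)))
  haveI : Polynomial.IsSplittingField K (AdjoinRoot f) f := ⟨hsplit, by
    rw [eq_top_iff, ← AdjoinRoot.adjoinRoot_eq_top (f := f)]
    refine Algebra.adjoin_mono (Set.singleton_subset_iff.2 ?_)
    rw [mem_rootSet]; exact ⟨minpoly.ne_zero hint, by simpa using hroot 0⟩⟩
  haveI : IsGalois K (AdjoinRoot f) := IsGalois.of_separable_splitting_field (p := f) hsep
  let e := AlgEquiv.ofInjectiveField ι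
  letI : CommRing ι.range :=
    { (inferInstance : Ring ι.range) with
      mul_comm := fun a b => by
        obtain ⟨a', rfl⟩ := e.surjective a
        obtain ⟨b', rfl⟩ := e.surjective b
        rw [← map_mul, mul_comm, map_mul] }
  letI : Field ι.range := (e.symm.toMulEquiv.isField (Field.toIsField _)).toField
  refine ⟨ι.range, inferInstance, inferInstance, IsGalois.of_algEquiv e, ?_, ⟨ι.range.val⟩⟩
  rw [← e.toLinearEquiv.finrank_eq, (AdjoinRoot.powerBasis (minpoly.ne_zero hint)).finrank]
  exact hd

end Groth.Agent.DivAlgP
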